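import Cfsg.Agent.TAB.Eng.Norm
import Cfsg.Agent.TAB.Use.Main

/-!
# From virtual rows and the class number to the table (helper19, TAB)

* `exists_blocks` : generalized characters `f i` with norms `n i`, `∑ n i ≤ k(G)` and `∑ d i • f i` the regular
  character split the irreducible characters into blocks of `n i` characters of degree `d i` with the sum `f i`;
* `tab_of_cls` : the decidable form for `Use.Tab` (any norms).
-/

set_option autoImplicit false

namespace Cfsg.Agent.TAB.Sm1

open Cfsg Cfsg.Agent.TAB.Eng Cfsg.Agent.TAB.Use Cfsg.Agent.Characters Cfsg.Agent.Characters.Core Cfsg.Agent.H447.CTab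
open scoped ComplexConjugate

universe u

/-- the combinatorial core -/
theorem blocks_aux {I J : Type*} [Fintype I] [Fintype J] [DecidableEq J] (μ : J → I → ℤ) (n : J → ℕ) (d : J → ℕ)
    (e : I → ℕ) (he : ∀ x, 0 < e x) (hn : ∀ j, ∑ x, μ j x * μ j x = n j) (hd : ∀ x, ∑ j, (d j : ℤ) * μ j x = e x)
    (hk : ∑ j, n j ≤ Fintype.card I) :
    ∃ b : I → J, (∀ x j, μ j x = if b x = j then 1 else 0) ∧ ∀ x, e x = d (b x) := by
  have h1 : ∀ x, ∃ j, μ j x ≠ 0 := fun x => by
    by_contra h
    push Not at h
    have h2 := hd x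
    simp only [h, mul_zero, Finset.sum_const_zero] at h2
    have := he x
    omega
  choose b hb using h1
  have h2 : ∀ x ∈ (Finset.univ : Finset I), (1 : ℤ) ≤ ∑ j, μ j x * μ j x := fun x _ =>
    (Int.add_one_le_iff.2 (mul_self_pos.2 (hb x))).trans
      (Finset.single_le_sum (f := fun j => μ j x * μ j x) (fun j _ => mul_self_nonneg _) (Finset.mem_univ (b x)))
  have h3 : ∑ x, ∑ j, μ j x * μ j x ≤ ∑ _x : I, (1 : ℤ) := by
    rw [Finset.sum_comm, Finset.sum_congr rfl fun j _ => hn j, Finset.sum_const, Finset.card_univ, nsmul_eq_mul,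
      mul_one]
    exact_mod_cast hk
  have h4 := (Finset.sum_eq_sum_iff_of_le h2).1 (le_antisymm (Finset.sum_le_sum h2) h3)
  have h5 : ∀ x, (μ (b x) x = 1 ∨ μ (b x) x = -1) ∧ ∀ j, j ≠ b x → μ j x = 0 := fun x => by
    obtain ⟨i, hi, hi'⟩ := one_of_sum_sq (m := fun j => μ j x) (h4 x (Finset.mem_univ x)).symm
    have h6 : b x = i := by
      by_contra h
      exact hb x (hi' _ h)
    rw [h6]
    exact ⟨hi, hi'⟩
  have h6 : ∀ x, (d (b x) : ℤ) * μ (b x) x = e x := fun x => by
    rw [← hd x, Finset.sum_eq_single (b x) (fun j _ hj => by rw [(h5 x).2 j hj, mul_zero]) (by simp)]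
  have h7 : ∀ x, μ (b x) x = 1 := fun x => by
    refine (h5 x).1.resolve_right fun h => ?_
    have h8 := h6 x
    have := he x
    rw [h] at h8
    omega
  refine ⟨b, fun x j => ?_, fun x => ?_⟩
  · split_ifs with h
    · rw [← h, h7]
    · exact (h5 x).2 j (Ne.symm h)
  · have h8 := h6 x
    rw [h7, mul_one] at h8
    exact_mod_cast h8.symm

variable {G : Type u} [Group G]

/-- **the blocks of irreducible characters** -/
theorem exists_blocks [Fintype G] [Fintype (IrrCharacter G)] {J : Type*} [Fintype J] [DecidableEq J]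
    (f : J → G → ℂ) (hf : ∀ j, IsGeneralizedCharacter G (f j)) (n d : J → ℕ)
    (hn : ∀ j, classInner (f j) (f j) = n j) (h1 : ∑ j, (d j : ℂ) * f j 1 = Nat.card G)
    (h0 : ∀ g, g ≠ 1 → ∑ j, (d j : ℂ) * f j g = 0) (hk : ∑ j, n j ≤ Nat.card (ConjClasses G)) :
    ∃ b : IrrCharacter G → J, (∀ χ : IrrCharacter G, (χ : G → ℂ) 1 = d (b χ)) ∧
      (∀ j, (Finset.univ.filter fun χ => b χ = j).card = n j) ∧
      ∀ j g, ∑ χ ∈ Finset.univ.filter fun χ => b χ = j, (χ : G → ℂ) g = f j g := by
  classical
  choose e he he' using fun χ : IrrCharacter G => isIrr_apply_one χ.2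
  have hn' : ∀ j, ∑ χ, mu (hf j) χ * mu (hf j) χ = n j := fun j => by
    have h2 := (inner_sum_mu (hf j) (hf j)).symm.trans (hn j)
    exact_mod_cast h2
  obtain ⟨b, hb, hb'⟩ := blocks_aux (fun j χ => mu (hf j) χ) n d e he hn' (fun χ => by
    have h2 : classInner (∑ j, (d j : ℂ) • f j) (χ : G → ℂ) = e χ := by
      rw [classInner_def, Finset.sum_eq_single 1 (fun g _ hg => by
        simp only [Finset.sum_apply, Pi.smul_apply, smul_eq_mul, h0 g hg, zero_mul]) (by simp)]
      simp only [Finset.sum_apply, Pi.smul_apply, smul_eq_mul, h1, he', Complex.conj_natCast]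
      rw [← mul_assoc, inv_mul_cancel₀ card_ne_zero_complex, one_mul]
    rw [classInner_sum_left] at h2
    simp only [classInner_smul_left, inner_mu (hf _)] at h2
    exact_mod_cast h2) (by rwa [← Nat.card_eq_fintype_card, card_irr])
  refine ⟨b, fun χ => by rw [he', hb'], fun j => ?_, fun j g => ?_⟩
  · have h2 := hn' j
    simp only [hb, mul_ite, mul_one, mul_zero, Finset.sum_ite, Finset.sum_const_zero, add_zero,
      Finset.filter_filter, and_self] at h2
    simpa using h2
  · rw [apply_mu (hf j) g, Finset.sum_filter]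
    refine Finset.sum_congr rfl fun χ _ => ?_
    rw [hb]
    split_ifs <;> simp

/-- the relation in which the character `j` occurs -/
def blk (R : Rows) (j : ℕ) : ℕ := R.rel.findIdx fun r => r.1.any fun p => p.1 == j

/-- the characters of a relation -/
def rc (R : Rows) (i : ℕ) : List (ℕ × ℤ) := (R.rel.getD i ([], [])).1

/-- the values of a relation -/
def rv (R : Rows) (i : ℕ) : List ℤ := (R.rel.getD i ([], [])).2

/-- the degree of the characters of a relation -/
def dg (R : Rows) (i : ℕ) : ℕ := R.d ((rc R i).headD (0, 0)).1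

/-- the check : blocks, norms, the regular character -/
noncomputable def okR (D : Dat) (R : Rows) : Bool :=
  D.cntL.length == D.n &&
  (List.range R.n).all (fun j => decide (blk R j < R.rel.length) && R.d j == dg R (blk R j)) &&
  (List.range R.rel.length).all (fun i => rc R i == ((List.range R.n).filter fun j => blk R j == i).map (·, 1) &&
    ip D (rv R i) (rv R i) == (D.N : ℤ) * ((rc R i).length : ℕ)) &&
  (List.range D.n).all fun t => ((List.range R.rel.length).map fun i => (dg R i : ℤ) * nth (rv R i) t).sum ==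
    if D.ord t = 1 then (D.N : ℤ) else 0

theorem sum_range_fin {M : Type*} [AddCommMonoid M] (f : ℕ → M) (n : ℕ) :
    ((List.range n).map f).sum = ∑ i : Fin n, f i := by
  rw [Fin.sum_univ_eq_sum_range f n]
  induction n with
  | zero => simp
  | succ n ih => rw [List.range_succ, List.map_append, List.sum_append, ih, Finset.sum_range_succ]; simp

theorem sum_filter_range {M : Type*} [AddCommMonoid M] (f : ℕ → M) (p : ℕ → Bool) (n : ℕ) :
    (((List.range n).filter p).map f).sum = ∑ i ∈ Finset.univ.filter fun i : Fin n => p i = true, f i := by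
  rw [Finset.sum_filter, ← sum_range_fin fun i => if p i = true then f i else 0]
  induction List.range n with
  | nil => simp
  | cons a l ih => by_cases h : p a = true <;> simp [h, ih]

variable {D : Dat} {T : TD G D} {R : Rows}

/-- **The table from virtual rows and the class number.** -/
theorem tab_of_cls [Finite G] (hm : T.Mass) (hv : ∀ r ∈ R.rel, Virt T (nth r.2)) (hc : okR D R = true)
    (hk : R.n ≤ Nat.card (ConjClasses G)) : Tab T R := by
  classical
  have := Fintype.ofFinite G
  have := finite_irr (G := G)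
  have := Fintype.ofFinite (IrrCharacter G)
  simp only [okR, Bool.and_eq_true, beq_iff_eq, List.all_eq_true, List.mem_range, decide_eq_true_eq] at hc
  obtain ⟨⟨⟨hl, h1⟩, h2⟩, h3⟩ := hc
  have hget : ∀ i : Fin R.rel.length, R.rel.getD i ([], []) = R.rel[i] := fun i => List.getD_eq_getElem _ _ i.2
  have hf : ∀ i : Fin R.rel.length, IsGeneralizedCharacter G (fn T (rv R i)) := fun i => by
    rw [rv, hget]
    exact hv _ (List.getElem_mem i.2)
  let b₀ : Fin R.n → Fin R.rel.length := fun j => ⟨blk R j, (h1 j j.2).1⟩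
  have hfil : ∀ i : Fin R.rel.length, (Finset.univ.filter fun j : Fin R.n => (blk R j == i) = true) =
      Finset.univ.filter fun j => b₀ j = i := fun i =>
    Finset.filter_congr fun j _ => by simp [b₀, Fin.ext_iff]
  have hlen : ∀ i : Fin R.rel.length, (rc R i).length = (Finset.univ.filter fun j => b₀ j = i).card := fun i => by
    rw [(h2 i i.2).1, List.length_map, ← hfil, Finset.card_eq_sum_ones,
      ← sum_filter_range (fun _ => 1) (fun j => blk R j == i)]
    simp
  have hreg : ∀ g : G, ∑ i : Fin R.rel.length, (dg R i : ℂ) * fn T (rv R i) g =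
      if g = 1 then (Nat.card G : ℂ) else 0 := fun g => by
    have h4 := h3 _ (T.lt g)
    rw [sum_range_fin (fun i => (dg R i : ℤ) * nth (rv R i) (T.ty g)), ← T.ord, ← hm.1] at h4
    simp only [orderOf_eq_one_iff] at h4
    have h5 := congrArg (Int.cast : ℤ → ℂ) h4
    push_cast at h5
    exact h5
  obtain ⟨b, hb1, hb2, hb3⟩ := exists_blocks (fun i : Fin R.rel.length => fn T (rv R i)) hf
    (fun i => (rc R i).length) (fun i => dg R i)
    (fun i => (inner_of_ip hm hl (h2 i i.2).2).trans (Int.cast_natCast _))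
    (by rw [hreg, if_pos rfl]) (fun g hg => by rw [hreg, if_neg hg])
    (by
      refine le_trans (le_of_eq ?_) hk
      rw [Finset.sum_congr rfl fun i _ => hlen i, ← Finset.card_eq_sum_card_fiberwise (s := Finset.univ)
        (t := Finset.univ) (f := b₀) fun _ _ => Finset.mem_univ _, Finset.card_univ, Fintype.card_fin])
  let e : Fin R.n ≃ IrrCharacter G := Equiv.ofFiberEquiv (f := b₀) (g := b) fun i =>
    Fintype.equivOfCardEq (by rw [Fintype.card_subtype, Fintype.card_subtype, hb2, hlen])
  have he : ∀ j, b (e j) = b₀ j := fun j => Equiv.ofFiberEquiv_map _ j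
  refine ⟨fun j => if h : j < R.n then (e ⟨j, h⟩ : G → ℂ) else 0, ⟨fun j hj => ?_, fun i hi j hj h => ?_,
    fun ψ hψ => ?_, fun j hj => ?_⟩, fun r hr g => ?_⟩
  · rw [dif_pos hj]
    exact (e _).2
  · rw [dif_pos hi, dif_pos hj] at h
    exact congrArg Fin.val (e.injective (Subtype.ext h))
  · refine ⟨e.symm ⟨ψ, hψ⟩, (e.symm ⟨ψ, hψ⟩).2, ?_⟩
    rw [dif_pos (e.symm ⟨ψ, hψ⟩).2, Fin.eta, e.apply_symm_apply]
  · rw [dif_pos hj, hb1, he, (h1 j hj).2]
  · obtain ⟨i, hi, rfl⟩ := List.getElem_of_mem hr
    have h4 : R.rel[i].1 = rc R i := congrArg Prod.fst (hget ⟨i, hi⟩).symm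
    have h5 : R.rel[i].2 = rv R i := congrArg Prod.snd (hget ⟨i, hi⟩).symm
    have h6 := hb3 ⟨i, hi⟩ g
    rw [h4, h5, (h2 i hi).1, List.map_map, sum_filter_range _ (fun j => blk R j == i), hfil ⟨i, hi⟩, ← nth_eq]
    refine Eq.trans ?_ h6
    refine Finset.sum_bijective e e.bijective (fun j => by simp [he]) fun j _ => ?_
    simp

end Cfsg.Agent.TAB.Sm1
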